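import Groth.Prelude.Def_W4stkflatp2Cpct
import Mathlib.CategoryTheory.Localization.CalculusOfFractions
import Mathlib.AlgebraicGeometry.Morphisms.QuasiSeparated
import Mathlib.AlgebraicGeometry.Morphisms.Immersion
import Mathlib.AlgebraicGeometry.Morphisms.ClosedImmersion

/-!
# The localization of compactifications at morphisms which are isomorphisms on the open parts
-/

set_option autoImplicit false
set_option linter.style.haveILetI false

universe u

open CategoryTheory CategoryTheory.Limits AlgebraicGeometry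

noncomputable section

namespace GrothLib.Cpct20

open Cpct

variable {S : Scheme.{u}}

theorem restr_ι {A B : Pair S} (f : A ⟶ B) :
    restr f ≫ B.U.ι = A.U.ι ≫ (Pair.Hom.bar f).left := Scheme.Hom.resLE_comp_ι _ _

theorem restr_comp {A B C : Pair S} (f : A ⟶ B) (g : B ⟶ C) : restr (f ≫ g) = restr f ≫ restr g :=
  congrArg (fun φ => CommaMorphism.left φ) ((openOver (S := S)).map_comp f g)

theorem restr_id (A : Pair S) : restr (𝟙 A) = 𝟙 _ :=
  congrArg (fun φ => CommaMorphism.left φ) ((openOver (S := S)).map_id A)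

instance isMultiplicative : (isoOpen S).IsMultiplicative where
  id_mem A := by
    show IsIso (restr (𝟙 A))
    rw [restr_id]
    infer_instance
  comp_mem f g hf hg := by
    show IsIso (restr (f ≫ g))
    rw [restr_comp]
    haveI : IsIso (restr f) := hf
    haveI : IsIso (restr g) := hg
    infer_instance

/-- A pair on a proper scheme receiving the open part of `A`, over `A`. -/
theorem exists_refine (A : Pair S) {Z : Scheme.{u}} (p : Z ⟶ A.bar.left) [IsProper (p ≫ A.bar.hom)]
    (e : (A.U : Scheme.{u}) ⟶ Z) [IsOpenImmersion e] (he : e ≫ p = A.U.ι) :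
    ∃ (P : Pair S) (π : P ⟶ A) (i : P.bar.left ⟶ Z) (_ : i ≫ p = (Pair.Hom.bar π).left),
      isoOpen S π ∧ restr π ≫ e = P.U.ι ≫ i ∧ (∀ x, x ∈ P.U → i x ∈ e.opensRange) := by
  have hmem : ∀ z, z ∈ e.opensRange → p z ∈ A.U := by
    rintro _ ⟨x, rfl⟩
    have h2 : (e ≫ p) x = A.U.ι x := by rw [he]
    rw [Scheme.Hom.comp_apply] at h2
    rw [h2]
    exact x.2
  let P : Pair S :=
    { bar := Over.mk (p ≫ A.bar.hom)
      U := e.opensRange
      isProper := inferInstanceAs (IsProper (p ≫ A.bar.hom))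
      isCompact := by
        haveI : CompactSpace (A.U : Scheme.{u}) := isCompact_iff_compactSpace.1 A.isCompact
        exact isCompact_range e.continuous }
  let π : P ⟶ A := ⟨Over.homMk p rfl, hmem⟩
  have h : e.isoOpensRange.hom ≫ restr π = 𝟙 _ := by
    rw [← cancel_mono A.U.ι, Category.assoc, restr_ι, Category.id_comp]
    exact (Scheme.Hom.isoOpensRange_hom_ι_assoc e p).trans he
  refine ⟨P, π, 𝟙 _, Category.id_comp _, ?_, ?_, fun x hx => hx⟩
  · haveI : IsIso (e.isoOpensRange.hom ≫ restr π) := by rw [h]; infer_instance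
    exact IsIso.of_isIso_comp_left e.isoOpensRange.hom (restr π)
  · rw [← cancel_epi e.isoOpensRange.hom, reassoc_of% h]
    exact (Scheme.Hom.isoOpensRange_hom_ι e).symm.trans
      (congrArg (e.isoOpensRange.hom ≫ ·) (Category.comp_id _).symm)

theorem isSeparated_bar (A : Pair S) : IsSeparated A.bar.hom := A.isProper.toIsSeparated

/-- Right Ore condition. -/
theorem exists_rightFraction {X Y Y' : Pair S} (f : X ⟶ Y') (s : Y ⟶ Y') (hs : isoOpen S s) :
    ∃ (P : Pair S) (t : P ⟶ X) (g : P ⟶ Y), isoOpen S t ∧ t ≫ f = g ≫ s := by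
  haveI : IsIso (restr s) := hs
  let fb := (Pair.Hom.bar f).left
  let sb := (Pair.Hom.bar s).left
  haveI := X.isProper
  haveI := Y.isProper
  haveI := isSeparated_bar Y'
  haveI : IsProper (sb ≫ Y'.bar.hom) := by rw [Over.w]; exact Y.isProper
  haveI : IsProper sb := IsProper.of_comp sb Y'.bar.hom
  haveI : IsProper (pullback.fst fb sb ≫ X.bar.hom) := inferInstance
  let c : (X.U : Scheme.{u}) ⟶ Y.U := restr f ≫ inv (restr s)
  have hc : c ≫ Y.U.ι ≫ sb = X.U.ι ≫ fb := by
    rw [← restr_ι s, ← restr_ι f]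
    simp [c]
  let e : (X.U : Scheme.{u}) ⟶ pullback fb sb :=
    pullback.lift X.U.ι (c ≫ Y.U.ι) (by rw [Category.assoc, hc])
  have he : e ≫ pullback.fst fb sb = X.U.ι := pullback.lift_fst _ _ _
  have he2 : e ≫ pullback.snd fb sb = c ≫ Y.U.ι := pullback.lift_snd _ _ _
  -- the open locus
  let W : (pullback fb sb).Opens := pullback.fst fb sb ⁻¹ᵁ X.U ⊓ pullback.snd fb sb ⁻¹ᵁ Y.U
  let r : (W : Scheme.{u}) ⟶ X.U := (pullback.fst fb sb).resLE X.U W inf_le_left
  let q : (W : Scheme.{u}) ⟶ Y.U := (pullback.snd fb sb).resLE Y.U W inf_le_right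
  have hr : r ≫ X.U.ι = W.ι ≫ pullback.fst fb sb := Scheme.Hom.resLE_comp_ι _ _
  have hq : q ≫ Y.U.ι = W.ι ≫ pullback.snd fb sb := Scheme.Hom.resLE_comp_ι _ _
  have hqs : q = r ≫ c := by
    have : q ≫ restr s = r ≫ restr f := by
      rw [← cancel_mono Y'.U.ι, Category.assoc, Category.assoc, restr_ι, restr_ι,
        reassoc_of% hr, reassoc_of% hq, pullback.condition]
    simp [c, ← reassoc_of% this]
  have hre : r ≫ e = W.ι := by
    refine pullback.hom_ext ?_ ?_
    · rw [Category.assoc, he, hr]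
    · rw [Category.assoc, he2, ← Category.assoc, ← hqs, hq]
  have hrange : Set.range e ⊆ Set.range W.ι := by
    rintro _ ⟨x, rfl⟩
    rw [Scheme.Opens.range_ι]
    refine ⟨?_, ?_⟩
    · have h2 : (e ≫ pullback.fst fb sb) x = X.U.ι x := by rw [he]
      rw [Scheme.Hom.comp_apply] at h2
      show pullback.fst fb sb (e x) ∈ X.U
      rw [h2]
      exact x.2
    · have h2 : (e ≫ pullback.snd fb sb) x = (c ≫ Y.U.ι) x := by rw [he2]
      rw [Scheme.Hom.comp_apply, Scheme.Hom.comp_apply] at h2
      show pullback.snd fb sb (e x) ∈ Y.U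
      rw [h2]
      exact (c x).2
  let e' : (X.U : Scheme.{u}) ⟶ W := IsOpenImmersion.lift W.ι e hrange
  have he' : e' ≫ W.ι = e := IsOpenImmersion.lift_fac _ _ _
  haveI : IsIso e' := ⟨r, by
    rw [← cancel_mono X.U.ι, Category.assoc, hr, reassoc_of% he', he, Category.id_comp], by
    rw [← cancel_mono W.ι, Category.assoc, he', hre, Category.id_comp]⟩
  haveI : IsOpenImmersion e := by rw [← he']; infer_instance
  obtain ⟨P, π, i, hi, hπ, hπe, hmem⟩ := exists_refine X (pullback.fst fb sb) e he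
  refine ⟨P, π, ⟨Over.homMk (i ≫ pullback.snd fb sb) ?_, fun x hx => ?_⟩, hπ, ?_⟩
  · rw [← Over.w (Pair.Hom.bar s)]
    simp only [Category.assoc]
    rw [← pullback.condition_assoc, reassoc_of% hi]
    simp [fb]
  · obtain ⟨x', hx'⟩ := hmem x hx
    have h2 : (e ≫ pullback.snd fb sb) x' = (c ≫ Y.U.ι) x' := by rw [he2]
    rw [Scheme.Hom.comp_apply, Scheme.Hom.comp_apply, hx'] at h2
    show (i ≫ pullback.snd fb sb) x ∈ Y.U
    rw [Scheme.Hom.comp_apply, h2]
    exact (c x').2
  · refine Pair.Hom.ext (Over.OverMorphism.ext ?_)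
    simp only [Pair.comp_bar, Over.comp_left, Over.homMk_left, Category.assoc]
    rw [← hi, Category.assoc, pullback.condition]

/-- Morphisms with the same open part agree after refining the source. -/
theorem exists_equalize {X Y : Pair S} (f g : X ⟶ Y) (h : restr f = restr g) :
    ∃ (P : Pair S) (t : P ⟶ X), isoOpen S t ∧ t ≫ f = t ≫ g := by
  haveI := X.isProper
  haveI := isSeparated_bar Y
  let fg : X.bar.left ⟶ pullback Y.bar.hom Y.bar.hom :=
    pullback.lift (Pair.Hom.bar f).left (Pair.Hom.bar g).left (by rw [Over.w, Over.w])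
  let δ := pullback.diagonal Y.bar.hom
  haveI : IsClosedImmersion δ := IsSeparated.isClosedImmersion_diagonal
  let p := pullback.fst fg δ
  haveI : IsClosedImmersion p := inferInstance
  haveI : IsProper (p ≫ X.bar.hom) := inferInstance
  have h' : X.U.ι ≫ (Pair.Hom.bar f).left = X.U.ι ≫ (Pair.Hom.bar g).left := by
    rw [← restr_ι, ← restr_ι, h]
  let e : (X.U : Scheme.{u}) ⟶ pullback fg δ :=
    pullback.lift X.U.ι (X.U.ι ≫ (Pair.Hom.bar f).left) (pullback.hom_ext
      (by simp only [fg, δ, Category.assoc, pullback.lift_fst, pullback.diagonal_fst, Category.comp_id])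
      (by simp only [fg, δ, Category.assoc, pullback.lift_snd, pullback.diagonal_snd, Category.comp_id, h']))
  have he : e ≫ p = X.U.ι := pullback.lift_fst _ _ _
  haveI : IsOpenImmersion e := by
    let W : (pullback fg δ).Opens := p ⁻¹ᵁ X.U
    have hr : p.resLE X.U W le_rfl ≫ X.U.ι = W.ι ≫ p := Scheme.Hom.resLE_comp_ι _ _
    let e' : (X.U : Scheme.{u}) ⟶ W := IsOpenImmersion.lift W.ι e (by
      rintro _ ⟨x, rfl⟩
      rw [Scheme.Opens.range_ι]
      have h2 : (e ≫ p) x = X.U.ι x := by rw [he]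
      rw [Scheme.Hom.comp_apply] at h2
      show p (e x) ∈ X.U
      rw [h2]
      exact x.2)
    have he' : e' ≫ W.ι = e := IsOpenImmersion.lift_fac _ _ _
    haveI : IsIso e' := ⟨p.resLE X.U W le_rfl, by
      rw [← cancel_mono X.U.ι, Category.assoc, hr, reassoc_of% he', he, Category.id_comp], by
      rw [← cancel_mono W.ι, Category.assoc, he', ← cancel_mono p, Category.assoc, he, hr,
        Category.id_comp]⟩
    rw [← he']
    infer_instance
  obtain ⟨P, π, i, hi, hπ, -, -⟩ := exists_refine X p e he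
  refine ⟨P, π, hπ, Pair.Hom.ext (Over.OverMorphism.ext ?_)⟩
  simp only [Pair.comp_bar, Over.comp_left]
  rw [← hi, Category.assoc, Category.assoc]
  refine congrArg (i ≫ ·) ?_
  have c := pullback.condition (f := fg) (g := δ)
  have c1 := c =≫ pullback.fst _ _
  have c2 := c =≫ pullback.snd _ _
  simp only [fg, δ, Category.assoc, pullback.lift_fst, pullback.lift_snd, pullback.diagonal_fst,
    pullback.diagonal_snd, Category.comp_id] at c1 c2
  exact c1.trans c2.symm

theorem hasRightCalculusOfFractions : (isoOpen S).HasRightCalculusOfFractions where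
  exists_rightFraction X Y φ := by
    obtain ⟨P, t, g, ht, h⟩ := exists_rightFraction φ.f φ.s φ.hs
    exact ⟨⟨t, ht, g⟩, h⟩
  ext X Y Y' f₁ f₂ s hs h := by
    haveI : IsIso (restr s) := hs
    obtain ⟨P, t, ht, h'⟩ := exists_equalize f₁ f₂ (by
      rw [← cancel_mono (restr s), ← restr_comp, ← restr_comp, h])
    exact ⟨P, t, ht, h'⟩

/-- Every morphism of open parts is the open part of a fraction. -/
theorem exists_fraction [QuasiSeparatedSpace S] {A B : Pair S} (φ : openOver.obj A ⟶ openOver.obj B) :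
    ∃ (P : Pair S) (s : P ⟶ A) (g : P ⟶ B), isoOpen S s ∧ restr g = restr s ≫ φ.left := by
  haveI := A.isProper
  haveI := B.isProper
  haveI := isSeparated_bar B
  let c : (A.U : Scheme.{u}) ⟶ B.U := φ.left
  have hc : c ≫ B.U.ι ≫ B.bar.hom = A.U.ι ≫ A.bar.hom := Over.w φ
  let j : (A.U : Scheme.{u}) ⟶ pullback A.bar.hom B.bar.hom :=
    pullback.lift A.U.ι (c ≫ B.U.ι) (by rw [Category.assoc]; exact hc.symm)
  have hj : j ≫ pullback.fst A.bar.hom B.bar.hom = A.U.ι := pullback.lift_fst _ _ _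
  have hj2 : j ≫ pullback.snd A.bar.hom B.bar.hom = c ≫ B.U.ι := pullback.lift_snd _ _ _
  haveI : IsImmersion (j ≫ pullback.fst A.bar.hom B.bar.hom) := by rw [hj]; infer_instance
  haveI : IsImmersion j := IsImmersion.of_comp j (pullback.fst A.bar.hom B.bar.hom)
  haveI : QuasiCompact A.U.ι := by
    refine ⟨fun K hKo hKc => ?_⟩
    rw [A.U.ι.isOpenEmbedding.isInducing.isCompact_iff, Set.image_preimage_eq_inter_range,
      Scheme.Opens.range_ι]
    haveI : QuasiSeparatedSpace A.bar.left := quasiSeparatedSpace_of_quasiSeparated A.bar.hom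
    exact QuasiSeparatedSpace.inter_isCompact _ _ hKo hKc A.U.isOpen A.isCompact
  haveI : QuasiCompact (j ≫ pullback.fst A.bar.hom B.bar.hom) := by rw [hj]; infer_instance
  haveI : QuasiCompact j := QuasiCompact.of_comp j (pullback.fst A.bar.hom B.bar.hom)
  let Z := j.image
  let p : Z ⟶ A.bar.left := j.imageι ≫ pullback.fst A.bar.hom B.bar.hom
  haveI : IsProper (p ≫ A.bar.hom) := inferInstance
  have he : j.toImage ≫ p = A.U.ι := by
    simp only [p]
    rw [Scheme.Hom.toImage_imageι_assoc, hj]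
  obtain ⟨P, π, i, hi, hπ, hπe, hmem⟩ := exists_refine A p j.toImage he
  refine ⟨P, π, ⟨Over.homMk (i ≫ j.imageι ≫ pullback.snd A.bar.hom B.bar.hom) ?_, fun x hx => ?_⟩, hπ, ?_⟩
  · rw [← Over.w (Pair.Hom.bar π)]
    simp only [Category.assoc, p] at hi ⊢
    rw [← pullback.condition, ← hi]
    simp
  · obtain ⟨x', hx'⟩ := hmem x hx
    have h2 : (j ≫ pullback.snd A.bar.hom B.bar.hom) x' = (c ≫ B.U.ι) x' := by rw [hj2]
    have h3 : (j ≫ pullback.snd A.bar.hom B.bar.hom) x' =
        (j.toImage ≫ j.imageι ≫ pullback.snd A.bar.hom B.bar.hom) x' := by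
      rw [Scheme.Hom.toImage_imageι_assoc]
    rw [h3, Scheme.Hom.comp_apply, hx', Scheme.Hom.comp_apply] at h2
    show (i ≫ j.imageι ≫ pullback.snd A.bar.hom B.bar.hom) x ∈ B.U
    rw [Scheme.Hom.comp_apply, Scheme.Hom.comp_apply, h2, Scheme.Hom.comp_apply]
    exact (c x').2
  · refine (cancel_mono B.U.ι).1 ?_
    rw [restr_ι]
    change P.U.ι ≫ i ≫ j.imageι ≫ pullback.snd A.bar.hom B.bar.hom = (restr π ≫ c) ≫ B.U.ι
    rw [← reassoc_of% hπe, Scheme.Hom.toImage_imageι_assoc, hj2, Category.assoc]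

theorem isInvertedBy : (isoOpen S).IsInvertedBy (openFunctor S) := fun A B f hf => by
  haveI : IsIso (restr f) := hf
  haveI : IsIso ((Over.forget S).map ((openOver (S := S)).map f)) :=
    inferInstanceAs (IsIso (restr f))
  haveI : IsIso ((openOver (S := S)).map f) := isIso_of_reflects_iso _ (Over.forget S)
  haveI : IsIso ((ObjectProperty.ι (IsCompactifyable S)).map ((openFunctor S).map f)) :=
    inferInstanceAs (IsIso ((openOver (S := S)).map f))
  exact isIso_of_reflects_iso _ (ObjectProperty.ι (IsCompactifyable S))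

theorem openFunctor_map_eq_iff {A B : Pair S} (f g : A ⟶ B) :
    (openFunctor S).map f = (openFunctor S).map g ↔ restr f = restr g :=
  ⟨fun h => congrArg (fun φ : (openFunctor S).obj A ⟶ (openFunctor S).obj B => φ.hom.left) h,
    fun h => ObjectProperty.hom_ext _ (Over.OverMorphism.ext h)⟩

/-- The open part functor is a localization. -/
theorem isLocalization [QuasiSeparatedSpace S] : (openFunctor S).IsLocalization (isoOpen S) := by
  haveI := hasRightCalculusOfFractions (S := S)
  refine ⟨isInvertedBy, ?_⟩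
  let L := (isoOpen S).Q
  let G := Localization.Construction.lift (openFunctor S) (isInvertedBy (S := S))
  have fac : L ⋙ G = openFunctor S := Localization.Construction.fac _ _
  let e : L ⋙ G ≅ openFunctor S := eqToIso fac
  haveI := Localization.essSurj L (isoOpen S)
  haveI hL : ∀ {A B : Pair S} (s : A ⟶ B), isoOpen S s → IsIso (L.map s) := fun s hs =>
    Localization.inverts L (isoOpen S) s hs
  have hGL : ∀ {A B : Pair S} (f : A ⟶ B),
      G.map (L.map f) = e.hom.app A ≫ (openFunctor S).map f ≫ e.inv.app B := fun {A B} f =>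
    (NatIso.naturality_2 e f).symm
  haveI hfaith : G.Faithful := by
    constructor
    intro P Q φ₁ φ₂ h
    let A := L.objPreimage P
    let B := L.objPreimage Q
    let a := L.objObjPreimageIso P
    let b := L.objObjPreimageIso Q
    suffices a.hom ≫ φ₁ ≫ b.inv = a.hom ≫ φ₂ ≫ b.inv by simpa using this
    obtain ⟨z₁, hz₁⟩ := Localization.exists_rightFraction L (isoOpen S) (a.hom ≫ φ₁ ≫ b.inv)
    obtain ⟨z₂, hz₂⟩ := Localization.exists_rightFraction L (isoOpen S) (a.hom ≫ φ₂ ≫ b.inv)
    rw [hz₁, hz₂]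
    obtain ⟨T, t₁, t₂, ht₁, ht⟩ := exists_rightFraction z₁.s z₂.s z₂.hs
    haveI : IsIso (restr t₁) := ht₁
    haveI : IsIso (restr z₁.s) := z₁.hs
    haveI := hL z₁.s z₁.hs
    haveI := hL z₂.s z₂.hs
    haveI := hL t₁ ht₁
    have hG : G.map (L.map (t₁ ≫ z₁.f)) = G.map (L.map (t₂ ≫ z₂.f)) := by
      have h1 : L.map (t₁ ≫ z₁.f) = L.map (t₁ ≫ z₁.s) ≫ (a.hom ≫ φ₁ ≫ b.inv) := by
        rw [hz₁, L.map_comp, L.map_comp, Category.assoc, MorphismProperty.RightFraction.map]
        simp
      have h2 : L.map (t₂ ≫ z₂.f) = L.map (t₂ ≫ z₂.s) ≫ (a.hom ≫ φ₂ ≫ b.inv) := by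
        rw [hz₂, L.map_comp, L.map_comp, Category.assoc, MorphismProperty.RightFraction.map]
        simp
      rw [h1, h2, ht]
      simp only [G.map_comp, h]
    rw [hGL, hGL] at hG
    have hr := (openFunctor_map_eq_iff _ _).1 ((cancel_mono _).1 ((cancel_epi _).1 hG))
    obtain ⟨R, r, hr', hrr⟩ := exists_equalize _ _ hr
    haveI := hL r hr'
    have key : L.map (t₁ ≫ z₁.f) = L.map (t₂ ≫ z₂.f) := by
      rw [← cancel_epi (L.map r), ← L.map_comp, ← L.map_comp, hrr]
    haveI : IsIso (L.map (t₁ ≫ z₁.s)) := by rw [L.map_comp]; infer_instance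
    rw [← cancel_epi (L.map (t₁ ≫ z₁.s))]
    calc L.map (t₁ ≫ z₁.s) ≫ z₁.map L (Localization.inverts L _)
        = L.map (t₁ ≫ z₁.f) := by simp [MorphismProperty.RightFraction.map]
      _ = L.map (t₂ ≫ z₂.f) := key
      _ = L.map (t₂ ≫ z₂.s) ≫ z₂.map L (Localization.inverts L _) := by
          simp [MorphismProperty.RightFraction.map]
      _ = L.map (t₁ ≫ z₁.s) ≫ z₂.map L (Localization.inverts L _) := by rw [ht]
  haveI hfull : G.Full := by
    constructor
    intro P Q ψ
    let A := L.objPreimage P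
    let B := L.objPreimage Q
    let a := L.objObjPreimageIso P
    let b := L.objObjPreimageIso Q
    let φ : (openFunctor S).obj A ⟶ (openFunctor S).obj B :=
      e.inv.app A ≫ G.map a.hom ≫ ψ ≫ G.map b.inv ≫ e.hom.app B
    obtain ⟨T, s, g, hs, hg⟩ := exists_fraction φ.hom
    haveI := hL s hs
    have hsg : (openFunctor S).map g = (openFunctor S).map s ≫ φ :=
      ObjectProperty.hom_ext _ (Over.OverMorphism.ext hg)
    refine ⟨a.inv ≫ inv (L.map s) ≫ L.map g ≫ b.hom, ?_⟩
    have key : G.map (L.map g) = G.map (L.map s) ≫ G.map a.hom ≫ ψ ≫ G.map b.inv := by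
      rw [hGL g, hsg, hGL s]
      simp [φ, A, B, a, b]
    rw [G.map_comp, G.map_comp, G.map_comp, G.map_inv, key]
    simp only [Category.assoc, IsIso.inv_hom_id_assoc]
    rw [← G.map_comp b.inv b.hom, Iso.inv_hom_id, G.map_id, Category.comp_id,
      ← Category.assoc (G.map a.inv), ← G.map_comp a.inv a.hom, Iso.inv_hom_id, G.map_id, Category.id_comp]
  haveI : G.EssSurj := by
    constructor
    intro X
    obtain ⟨A, ⟨i⟩⟩ := X.property
    exact ⟨L.obj A, ⟨e.app A ≪≫ ObjectProperty.isoMk _ i⟩⟩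
  exact { }

end GrothLib.Cpct20
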